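import Cfsg.Agent.RankOne.SetupBasic

/-!
Lower bounds for the number of elements of even order in a rank-one set-up: each fixes exactly one
point, an involution and its centraliser give pairs `h, z h` of which one has even order.
-/

set_option autoImplicit false
set_option linter.style.haveILetI false

open MulAction

namespace CfsgLib.RankOneSetup

section Generic

variable {K : Type*} [Group K] [Finite K]

theorem even_orderOf_mul_of_commute {h z : K} (hz1 : z ≠ 1) (hz2 : z * z = 1) (hc : z * h = h * z)
    (ho : Odd (orderOf h)) : Even (orderOf (z * h)) := by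
  have hz : orderOf z = 2 := orderOf_eq_prime (by rw [pow_two]; exact hz2) hz1
  have hcop : Nat.Coprime (orderOf z) (orderOf h) := by
    rw [hz]; exact Nat.coprime_two_left.mpr ho
  rw [Commute.orderOf_mul_eq_mul_orderOf_of_coprime (show Commute z h from hc) hcop, hz]
  exact even_two_mul _

/-- At least half of the centraliser of an involution consists of elements of even order. -/
theorem card_centralizer_le_two_mul_even {z : K} (hz1 : z ≠ 1) (hz2 : z * z = 1) :
    Nat.card (Subgroup.centralizer ({z} : Set K)) ≤ 2 * Nat.card {g : K // Even (orderOf g)} := by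
  classical
  haveI := Fintype.ofFinite K
  set C := Subgroup.centralizer ({z} : Set K)
  let f : C → {g : K // Even (orderOf g)} × Bool := fun h =>
    if hh : Even (orderOf (h : K)) then (⟨h, hh⟩, true)
    else (⟨z * h, even_orderOf_mul_of_commute hz1 hz2
      (Subgroup.mem_centralizer_singleton_iff.mp h.2).symm (Nat.not_even_iff_odd.mp hh)⟩, false)
  have hf : Function.Injective f := by
    intro x y hxy
    simp only [f] at hxy
    split_ifs at hxy <;> simp at hxy
    · exact hxy
    · exact hxy
  calc Nat.card C ≤ Nat.card ({g : K // Even (orderOf g)} × Bool) :=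
        Nat.card_le_card_of_injective f hf
    _ = 2 * Nat.card {g : K // Even (orderOf g)} := by
      rw [Nat.card_prod, Nat.card_eq_fintype_card (α := Bool), Fintype.card_bool, mul_comm]

/-- The same bound relative to the number of involutions. -/
theorem card_le_two_mul_involutions_mul_even {z : K} (hz1 : z ≠ 1) (hz2 : z * z = 1) :
    Nat.card K ≤
      2 * Nat.card {s : K // s ≠ 1 ∧ s * s = 1} * Nat.card {g : K // Even (orderOf g)} := by
  have h1 := Subgroup.card_mul_index (Subgroup.centralizer ({z} : Set K))
  have h2 : (Subgroup.centralizer ({z} : Set K)).index ≤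
      Nat.card {s : K // s ≠ 1 ∧ s * s = 1} := by
    refine Nat.card_le_card_of_injective
      (Quotient.lift (fun g : K => (⟨g * z * g⁻¹, fun h => hz1 ?_, ?_⟩ :
        {s : K // s ≠ 1 ∧ s * s = 1})) ?_) ?_
    · have := congrArg (fun x => g⁻¹ * x * g) h
      simpa [mul_assoc] using this
    · rw [show g * z * g⁻¹ * (g * z * g⁻¹) = g * (z * z) * g⁻¹ by group, hz2]
      group
    · intro g g' hgg
      rw [← Quotient.eq_iff_equiv] at hgg
      have hm := QuotientGroup.eq.mp hgg
      rw [Subgroup.mem_centralizer_singleton_iff] at hm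
      refine Subtype.ext ?_
      show g * z * g⁻¹ = g' * z * g'⁻¹
      calc g * z * g⁻¹ = g * (z * (g⁻¹ * g')) * g'⁻¹ := by group
        _ = g * (g⁻¹ * g' * z) * g'⁻¹ := by rw [hm]
        _ = g' * z * g'⁻¹ := by group
    · intro p p'
      induction p using QuotientGroup.induction_on with | _ g => ?_
      induction p' using QuotientGroup.induction_on with | _ g' => ?_
      intro h
      have h' : g * z * g⁻¹ = g' * z * g'⁻¹ := congrArg Subtype.val h
      rw [QuotientGroup.eq, Subgroup.mem_centralizer_singleton_iff]
      calc g⁻¹ * g' * z = g⁻¹ * (g' * z * g'⁻¹) * g' := by group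
        _ = g⁻¹ * (g * z * g⁻¹) * g' := by rw [h']
        _ = z * (g⁻¹ * g') := by group
  calc Nat.card K = Nat.card (Subgroup.centralizer ({z} : Set K)) *
        (Subgroup.centralizer ({z} : Set K)).index := h1.symm
    _ ≤ 2 * Nat.card {g : K // Even (orderOf g)} * Nat.card {s : K // s ≠ 1 ∧ s * s = 1} :=
      Nat.mul_le_mul (card_centralizer_le_two_mul_even hz1 hz2) h2
    _ = _ := by ring

/-- If the elements outside `A`, a subgroup containing all involutions, centralise exactly one
involution, at least half of them have even order. -/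
theorem card_sub_le_two_mul_even {A : Subgroup K}
    (hA : ∀ s : K, s ≠ 1 → s * s = 1 → s ∈ A)
    (hu : ∀ h : K, h ∉ A → ∃! s : K, s ≠ 1 ∧ s * s = 1 ∧ s * h = h * s) :
    Nat.card K ≤ Nat.card A + 2 * Nat.card {g : K // Even (orderOf g)} := by
  classical
  haveI := Fintype.ofFinite K
  choose z hz hzu using hu
  let f : K → A ⊕ ({g : K // Even (orderOf g)} × Bool) := fun h =>
    if hA' : h ∈ A then Sum.inl ⟨h, hA'⟩
    else if hh : Even (orderOf h) then Sum.inr (⟨h, hh⟩, true)
    else Sum.inr (⟨z h hA' * h, even_orderOf_mul_of_commute (hz h hA').1 (hz h hA').2.1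
      (hz h hA').2.2 (Nat.not_even_iff_odd.mp hh)⟩, false)
  have hf : Function.Injective f := by
    intro x y hxy
    simp only [f] at hxy
    split_ifs at hxy with h1 h2 h3 h4 h5 h6
    all_goals first
      | simpa using hxy
      | skip
    simp only [Sum.inr.injEq, Prod.mk.injEq, Subtype.mk.injEq, and_true] at hxy
    have hout : z x h1 * x ∉ A := fun h =>
      h1 ((A.mul_mem_cancel_left (hA _ (hz x h1).1 (hz x h1).2.1)).mp h)
    have key : ∀ w (hw : w ∉ A), z w hw * w = z x h1 * x → z w hw = z (z x h1 * x) hout := by
      intro w hw he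
      refine hzu _ hout _ ⟨(hz w hw).1, (hz w hw).2.1, ?_⟩
      rw [← he, ← mul_assoc, mul_assoc (z w hw) w, ← (hz w hw).2.2, ← mul_assoc]
    have he : z x h1 = z y (by assumption) :=
      (key x h1 rfl).trans (key y (by assumption) hxy.symm).symm
    rw [← he] at hxy
    exact mul_left_cancel hxy
  calc Nat.card K ≤ Nat.card (A ⊕ ({g : K // Even (orderOf g)} × Bool)) :=
        Nat.card_le_card_of_injective f hf
    _ = _ := by
      rw [Nat.card_sum, Nat.card_prod, Nat.card_eq_fintype_card (α := Bool), Fintype.card_bool,
        mul_comm _ 2]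

end Generic

section Setup

variable {G Ω : Type*} [Group G] [Finite G] [MulAction G Ω] {a : Ω} {t : G} {Q : Subgroup G}
variable (hS : Cfsg.IsRankOneSetup G Ω a t Q)
include hS

/-- An element of even order fixes exactly one point. -/
theorem even_fix_unique {g : G} (hg : Even (orderOf g)) : ∃! p : Ω, g • p = p := by
  obtain ⟨m, hm⟩ := hg
  have hpos := orderOf_pos g
  set s := g ^ m with hs
  have hs2 : s * s = 1 := by rw [hs, ← pow_add, ← hm, pow_orderOf_eq_one]
  have hs1 : s ≠ 1 := fun h => by
    have := Nat.le_of_dvd (by omega) (orderOf_dvd_of_pow_eq_one h)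
    omega
  obtain ⟨p, hp⟩ := exists_fix_involution hS hs2
  refine ⟨p, involution_fix_unique hS hs1 hs2 ?_ hp, fun c (hc : g • c = c) => ?_⟩
  · rw [smul_smul, show s * g = g * s by rw [hs, ← pow_succ, ← pow_succ'], mul_smul, hp]
  · refine involution_fix_unique hS hs1 hs2 ?_ hp
    exact mem_stabilizer_iff.mp ((stabilizer G c).pow_mem (mem_stabilizer_iff.mpr hc) m)

/-- The elements of even order are spread evenly over the points. -/
theorem card_even :
    Nat.card {g : G // Even (orderOf g)} =
      Nat.card Ω * Nat.card {g : stabilizer G a // Even (orderOf g)} := by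
  classical
  haveI := finite_pts hS
  haveI := Fintype.ofFinite Ω
  haveI := pretransitive hS
  choose p hp hpu using fun g : {g : G // Even (orderOf g)} => even_fix_unique hS g.2
  have hfib : ∀ c : Ω, Nat.card {g : {g : G // Even (orderOf g)} // p g = c} =
      Nat.card {g : stabilizer G a // Even (orderOf g)} := by
    intro c
    obtain ⟨x, rfl⟩ := exists_smul_eq G a c
    have ho : ∀ w y : G, orderOf (w * y * w⁻¹) = orderOf y := fun w y =>
      orderOf_injective (MulAut.conj w).toMonoidHom (MulAut.conj w).injective y
    have hx : ∀ g : stabilizer G a, (x * g * x⁻¹) • x • a = x • a := fun g =>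
      conj_fix hS g.2
    have hfwd : ∀ g : {g : stabilizer G a // Even (orderOf g)},
        Even (orderOf (x * (g.1 : G) * x⁻¹)) := fun g => by
      rw [ho, Subgroup.orderOf_coe]; exact g.2
    have hb1 : ∀ g : {g : {g : G // Even (orderOf g)} // p g = x • a},
        x⁻¹ * g.1.1 * x ∈ stabilizer G a := by
      intro g
      have h : g.1.1 • p g.1 = p g.1 := hp g.1
      rw [g.2] at h
      show (x⁻¹ * g.1.1 * x) • a = a
      rw [mul_smul, mul_smul, h, inv_smul_smul]
    have hb2 : ∀ g : {g : {g : G // Even (orderOf g)} // p g = x • a},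
        Even (orderOf (⟨x⁻¹ * g.1.1 * x, hb1 g⟩ : stabilizer G a)) := by
      intro g
      rw [← Subgroup.orderOf_coe]
      have := ho x⁻¹ g.1.1
      rw [inv_inv] at this
      show Even (orderOf (x⁻¹ * g.1.1 * x))
      rw [this]
      exact g.1.2
    let e : {g : stabilizer G a // Even (orderOf g)} ≃
        {g : {g : G // Even (orderOf g)} // p g = x • a} :=
      { toFun := fun g => ⟨⟨_, hfwd g⟩, (hpu ⟨_, hfwd g⟩ _ (hx g.1)).symm⟩
        invFun := fun g => ⟨⟨_, hb1 g⟩, hb2 g⟩
        left_inv := fun g => Subtype.ext (Subtype.ext (by simp [mul_assoc]))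
        right_inv := fun g => Subtype.ext (Subtype.ext (by simp [mul_assoc])) }
    exact (Nat.card_congr e).symm
  rw [← Nat.card_congr (Equiv.sigmaFiberEquiv p), Nat.card_sigma, Finset.sum_congr rfl
    fun c _ => hfib c, Finset.sum_const, Finset.card_univ, smul_eq_mul, Nat.card_eq_fintype_card (α := Ω)]

end Setup

end CfsgLib.RankOneSetup
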